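import Groth.Prelude.Def_CycAlg
import Groth.Prelude.Def_CycDet
import Groth.Agent.Lib.CycDet29.Basic
import Mathlib.RingTheory.KrullDimension.Module
import Mathlib.RingTheory.Support
import Mathlib.RingTheory.Length
import Mathlib.RingTheory.HopkinsLevitzki
import Mathlib.RingTheory.Ideal.AssociatedPrime.Localization
import Mathlib.RingTheory.Ideal.GoingUp
import Mathlib.Algebra.Module.LocalizedModule.Exact
import Mathlib.Tactic.LinearCombination

/-!
# Small facts about one-dimensional modules and good sequences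
-/

universe u v

namespace Groth.Agent.CycAlg26

section FiniteLength

variable {R : Type u} [CommRing R] [IsNoetherianRing R] {M : Type v} [AddCommGroup M] [Module R M]
  [Module.Finite R M]

/-- A finite module supported at maximal ideals is Artinian. -/
theorem isArtinian_of_support (h : ∀ p ∈ Module.support R M, p.asIdeal.IsMaximal) :
    IsArtinian R M := by
  let I := Module.annihilator R M
  haveI : Ring.KrullDimLE 0 (R ⧸ I) := by
    refine Ring.krullDimLE_zero_iff.2 fun P hP => ?_
    haveI := hP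
    haveI : (P.comap (Ideal.Quotient.mk I)).IsMaximal :=
      h ⟨P.comap (Ideal.Quotient.mk I), hP.comap _⟩ (by
      rw [Module.support_eq_zeroLocus]
      exact fun r hr => by
        show Ideal.Quotient.mk I r ∈ P
        rw [Ideal.Quotient.eq_zero_iff_mem.2 hr]
        exact P.zero_mem)
    rw [← Ideal.map_comap_of_surjective _ Ideal.Quotient.mk_surjective P]
    exact Ideal.map_eq_top_or_isMaximal_of_surjective _ Ideal.Quotient.mk_surjective ‹_›
      |>.resolve_left (by rw [Ideal.map_comap_of_surjective _ Ideal.Quotient.mk_surjective]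
                          exact hP.ne_top)
  haveI : IsArtinianRing (R ⧸ I) := isArtinianRing_iff_krullDimLE_zero.mpr inferInstance
  letI : Module (R ⧸ I) M :=
    Module.IsTorsionBySet.module (fun m a => Module.mem_annihilator.mp a.2 m)
  haveI : IsScalarTower R (R ⧸ I) M := ⟨fun r s m => by
    obtain ⟨s, rfl⟩ := Ideal.Quotient.mk_surjective s
    exact mul_smul r s m⟩
  haveI : Module.Finite (R ⧸ I) M := Module.Finite.of_restrictScalars_finite R _ _
  haveI : IsArtinian (R ⧸ I) M := isArtinian_of_fg_of_artinian'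
  exact isArtinian_of_surjective_algebraMap (R := R ⧸ I) Ideal.Quotient.mk_surjective

theorem not_lt_lt_of_supportDim_le_one (hdim : Module.supportDim R M ≤ 1) {a b c : PrimeSpectrum R}
    (ha : a ∈ Module.support R M) (hb : b ∈ Module.support R M) (hc : c ∈ Module.support R M)
    (hab : a < b) (hbc : b < c) : False := by
  rw [Module.supportDim, Order.krullDim_le_one_iff] at hdim
  rcases hdim ⟨b, hb⟩ with h | h
  · exact h.not_lt (b := ⟨a, ha⟩) hab
  · exact h.not_lt (b := ⟨c, hc⟩) hbc

/-- An injective endomorphism of a module of dimension at most one has cokernel of finite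
length. -/
theorem length_quot_range_lt_top [IsLocalRing R] (hdim : Module.supportDim R M ≤ 1)
    (f : M →ₗ[R] M) (hf : Function.Injective f) :
    Module.length R (M ⧸ LinearMap.range f) < ⊤ := by
  haveI : IsArtinian R (M ⧸ LinearMap.range f) := by
    refine isArtinian_of_support fun p hp => ?_
    by_contra hmax
    have hpM : p ∈ Module.support R M :=
      Module.support_subset_of_surjective _ (Submodule.mkQ_surjective _) hp
    have hlt : p < ⟨IsLocalRing.maximalIdeal R, inferInstance⟩ := by
      refine lt_of_le_of_ne (IsLocalRing.le_maximalIdeal p.2.ne_top) fun e => hmax ?_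
      rw [e]
      exact IsLocalRing.maximalIdeal.isMaximal R
    let S := p.asIdeal.primeCompl
    haveI : IsArtinian (Localization S) (LocalizedModule S M) := by
      refine isArtinian_of_support fun q hq => ?_
      have hd := ((IsLocalization.isPrime_iff_isPrime_disjoint S (Localization S) q.asIdeal).mp q.2).2
      have hle : q.asIdeal.comap (algebraMap R (Localization S)) ≤ p.asIdeal :=
        fun r hr => by_contra fun hrp => Set.disjoint_left.mp hd hrp hr
      have hmem : (⟨q.asIdeal.comap (algebraMap R (Localization S)), inferInstance⟩ :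
          PrimeSpectrum R) ∈ Module.support R M := by
        rw [Module.support_eq_zeroLocus]
        intro r hr
        refine Module.annihilator_le_of_mem_support hq (Module.mem_annihilator.mpr fun y => ?_)
        obtain ⟨⟨m, s⟩, rfl⟩ :=
          IsLocalizedModule.mk'_surjective S (LocalizedModule.mkLinearMap S M) y
        simp only [Function.uncurry_apply_pair]
        rw [algebraMap_smul, ← IsLocalizedModule.mk'_smul, Module.mem_annihilator.mp hr,
          IsLocalizedModule.mk'_zero]
      rcases hle.eq_or_lt with e | e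
      · have : q.asIdeal = IsLocalRing.maximalIdeal (Localization S) := by
          rw [← IsLocalization.map_comap S (Localization S) q.asIdeal, Ideal.under_def, e]
          exact Localization.AtPrime.map_eq_maximalIdeal
        rw [this]
        exact IsLocalRing.maximalIdeal.isMaximal _
      · exact (not_lt_lt_of_supportDim_le_one hdim hmem hpM
          (Module.mem_support_mono hlt.le hpM) e hlt).elim
    have hsurj := IsArtinian.surjective_of_injective_endomorphism
      (LocalizedModule.map S f) (LocalizedModule.map_injective S f hf)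
    refine Module.notMem_support_iff'.mpr (fun x => ?_) hp
    obtain ⟨m, rfl⟩ := Submodule.Quotient.mk_surjective _ x
    obtain ⟨y, hy⟩ := hsurj (LocalizedModule.mk m 1)
    induction y using LocalizedModule.induction_on with
    | h y t =>
      rw [LocalizedModule.map_mk] at hy
      obtain ⟨w, hw⟩ := LocalizedModule.mk_eq.mp hy
      refine ⟨((w * t : S) : R), (w * t).2, ?_⟩
      rw [← Submodule.Quotient.mk_smul, Submodule.Quotient.mk_eq_zero]
      refine ⟨(w : R) • y, ?_⟩
      simp only [one_smul, Submonoid.smul_def] at hw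
      rw [map_smul, hw, Submonoid.coe_mul, mul_smul]
  exact Module.length_ne_top.lt_top

end FiniteLength

theorem periodic_quot {A : Type u} [CommRing A] [IsNoetherianRing A] [IsLocalRing A] {M : Type v}
    [AddCommGroup M] [Module A M] [Module.Finite A M] (hdim : Module.supportDim A M = 1)
    (φ ψ : M →ₗ[A] M) (hφ : Function.Injective φ) (hψ : Function.Injective ψ)
    (hcomm : Submodule.map φ (LinearMap.range ψ) = Submodule.map ψ (LinearMap.range φ))
    (φ' ψ' : (M ⧸ LinearMap.range (φ ∘ₗ ψ)) →ₗ[A] (M ⧸ LinearMap.range (φ ∘ₗ ψ)))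
    (hφ' : φ' ∘ₗ (LinearMap.range (φ ∘ₗ ψ)).mkQ = (LinearMap.range (φ ∘ₗ ψ)).mkQ ∘ₗ φ)
    (hψ' : ψ' ∘ₗ (LinearMap.range (φ ∘ₗ ψ)).mkQ = (LinearMap.range (φ ∘ₗ ψ)).mkQ ∘ₗ ψ) :
    Module.length A (M ⧸ LinearMap.range (φ ∘ₗ ψ)) < ⊤ ∧ CycAlg.IsPeriodic φ' ψ' ∧
      Subsingleton (CycAlg.perH φ' ψ') ∧ Subsingleton (CycAlg.perH ψ' φ') := by
  have e : LinearMap.range (φ ∘ₗ ψ) = Submodule.map ψ (LinearMap.range φ) := by
    rw [LinearMap.range_comp, hcomm]
  have aφ : ∀ m, φ' (Submodule.Quotient.mk m) = Submodule.Quotient.mk (φ m) :=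
    fun m => LinearMap.congr_fun hφ' m
  have aψ : ∀ m, ψ' (Submodule.Quotient.mk m) = Submodule.Quotient.mk (ψ m) :=
    fun m => LinearMap.congr_fun hψ' m
  refine ⟨length_quot_range_lt_top hdim.le _ (hφ.comp hψ), ⟨?_, ?_⟩, ?_, ?_⟩
  · refine Submodule.linearMap_qext _ (LinearMap.ext fun m => ?_)
    simp only [LinearMap.comp_apply, Submodule.mkQ_apply, LinearMap.zero_apply, aψ, aφ,
      Submodule.Quotient.mk_eq_zero]
    exact ⟨m, rfl⟩
  · refine Submodule.linearMap_qext _ (LinearMap.ext fun m => ?_)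
    simp only [LinearMap.comp_apply, Submodule.mkQ_apply, LinearMap.zero_apply, aψ, aφ,
      Submodule.Quotient.mk_eq_zero]
    rw [e]
    exact Submodule.mem_map_of_mem ⟨m, rfl⟩
  · refine Submodule.Quotient.subsingleton_iff.mpr (eq_top_iff.mpr ?_)
    rintro ⟨x, hx⟩ -
    obtain ⟨m, rfl⟩ := Submodule.Quotient.mk_surjective _ x
    rw [LinearMap.mem_ker, aφ, Submodule.Quotient.mk_eq_zero] at hx
    obtain ⟨y, hy⟩ := hx
    exact ⟨Submodule.Quotient.mk y, (aψ y).trans (congrArg _ (hφ hy))⟩
  · refine Submodule.Quotient.subsingleton_iff.mpr (eq_top_iff.mpr ?_)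
    rintro ⟨x, hx⟩ -
    obtain ⟨m, rfl⟩ := Submodule.Quotient.mk_surjective _ x
    rw [LinearMap.mem_ker, aψ, Submodule.Quotient.mk_eq_zero, e] at hx
    obtain ⟨z, ⟨y, rfl⟩, hz⟩ := hx
    exact ⟨Submodule.Quotient.mk y, (aφ y).trans (congrArg _ (hψ hz))⟩

theorem bound_pow_dvd (R : Type u) [CommRing R] [IsNoetherianRing R] [IsLocalRing R]
    (hR : ringKrullDim R = 1) (a b : R) (ha : a ∈ nonZeroDivisors R)
    (ham : a ∈ IsLocalRing.maximalIdeal R) (hb : b ∈ nonZeroDivisors R) :
    ∃ n : ℕ, ∀ (R' : Type u) [CommRing R'] [Algebra R R'], Function.Injective (algebraMap R R') →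
      Module.Finite R R' → ∀ (m : ℕ) (c : R'),
        algebraMap R R' b = algebraMap R R' a ^ m * c → m ≤ n := by
  have hrad : a ∈ (Ideal.span {b}).radical := by
    rw [Ideal.radical_eq_sInf]
    refine Submodule.mem_sInf.mpr fun J hJ => ?_
    obtain ⟨hbJ, hJ⟩ := hJ
    haveI := hJ
    suffices J = IsLocalRing.maximalIdeal R by rw [this]; exact ham
    by_contra hne
    obtain ⟨P, hP, hPJ⟩ := Ideal.exists_minimalPrimes_le (J := J) (bot_le : (⊥ : Ideal R) ≤ J)
    haveI := hP.1.1
    have hP' : P < J := lt_of_le_of_ne hPJ fun e => by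
      have := hbJ (Ideal.subset_span (Set.mem_singleton b))
      rw [← e] at this
      exact Set.disjoint_left.mp (Ideal.disjoint_nonZeroDivisors_of_mem_minimalPrimes hP) this hb
    have := hR
    rw [ringKrullDim] at this
    rcases Order.krullDim_le_one_iff.mp this.le ⟨J, hJ⟩ with h | h
    · exact h.not_lt (b := ⟨P, inferInstance⟩) hP'
    · exact h.not_lt (b := ⟨IsLocalRing.maximalIdeal R, inferInstance⟩)
        (lt_of_le_of_ne (IsLocalRing.le_maximalIdeal hJ.ne_top) fun e => hne (congrArg PrimeSpectrum.asIdeal e))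
  obtain ⟨N, hN⟩ := hrad
  obtain ⟨r, hr⟩ := Ideal.mem_span_singleton'.mp hN
  refine ⟨N, fun R' _ _ hinj hfin m c hc => ?_⟩
  by_contra hlt
  push Not at hlt
  obtain ⟨P, hP⟩ := Ideal.nonempty_minimalPrimes (bot_ne_top (α := Ideal R))
  haveI := hP.1.1
  haveI : Algebra.IsIntegral R R' := Algebra.IsIntegral.of_finite R R'
  obtain ⟨Q, -, hQ, hQP⟩ := Ideal.exists_ideal_over_prime_of_isIntegral P (⊥ : Ideal R') (by
    simp [Ideal.comap_bot_of_injective _ hinj])
  haveI := hQ
  obtain ⟨Q', hQ'Q, hQ', hQ'm⟩ := Ideal.exists_ideal_over_prime_of_isIntegral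
    (IsLocalRing.maximalIdeal R) Q (hQP.le.trans (IsLocalRing.le_maximalIdeal hP.1.1.ne_top))
  obtain ⟨j, rfl⟩ : ∃ j, m = N + (j + 1) := ⟨m - N - 1, by omega⟩
  have e : algebraMap R R' a ^ N * (1 - algebraMap R R' a ^ (j + 1) * c * algebraMap R R' r) = 0 := by
    have e' : algebraMap R R' a ^ N = algebraMap R R' r * algebraMap R R' b := by
      rw [← map_pow, ← map_mul, hr]
    linear_combination e' + algebraMap R R' r * hc
  have haQ : algebraMap R R' a ∉ Q := fun h => by
    have : a ∈ P := by rw [← hQP]; exact h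
    exact Set.disjoint_left.mp (Ideal.disjoint_nonZeroDivisors_of_mem_minimalPrimes hP) this ha
  have h1 : 1 - algebraMap R R' a ^ (j + 1) * c * algebraMap R R' r ∈ Q' := hQ'Q
    ((hQ.mem_or_mem (e ▸ Q.zero_mem)).resolve_left fun h => haQ (hQ.mem_of_pow_mem _ h))
  have h2 : algebraMap R R' a ^ (j + 1) * c * algebraMap R R' r ∈ Q' :=
    Q'.mul_mem_right _ (Q'.mul_mem_right _ (Q'.pow_mem_of_mem
      (show a ∈ Q'.comap (algebraMap R R') by rw [hQ'm]; exact ham) _ (by omega)))
  exact hQ'.ne_top ((Ideal.eq_top_iff_one _).mpr (by simpa using Q'.add_mem h1 h2))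

section GoodSeq

open CycDet29

variable {R : Type u} [CommRing R] [IsLocalRing R] {M : Type u} [AddCommGroup M] [Module R M]

theorem exists_equiv_of_colon (N : Submodule R M) (y : M) (q : Ideal R)
    (hy : ∀ r, r • y ∈ N ↔ r ∈ q) :
    Nonempty ((↥(N ⊔ R ∙ y) ⧸ N.submoduleOf (N ⊔ R ∙ y)) ≃ₗ[R] (R ⧸ q)) := by
  let y' : ↥(N ⊔ R ∙ y) := ⟨y, Submodule.mem_sup_right (Submodule.mem_span_singleton_self y)⟩
  let g : R →ₗ[R] ↥(N ⊔ R ∙ y) ⧸ N.submoduleOf (N ⊔ R ∙ y) :=
    LinearMap.toSpanSingleton R _ (Submodule.Quotient.mk y')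
  have hk : LinearMap.ker g = q := by
    ext r
    rw [LinearMap.mem_ker]
    show r • (Submodule.Quotient.mk y' : ↥(N ⊔ R ∙ y) ⧸ N.submoduleOf (N ⊔ R ∙ y)) = 0 ↔ _
    rw [← Submodule.Quotient.mk_smul, Submodule.Quotient.mk_eq_zero, ← hy r]
    rfl
  have hg : Function.Surjective g := fun z => by
    obtain ⟨⟨z, hz⟩, rfl⟩ := Submodule.Quotient.mk_surjective _ z
    obtain ⟨n, hn, w, hw, rfl⟩ := Submodule.mem_sup.mp hz
    obtain ⟨r, rfl⟩ := Submodule.mem_span_singleton.mp hw
    refine ⟨r, ?_⟩
    show r • (Submodule.Quotient.mk y' : ↥(N ⊔ R ∙ y) ⧸ N.submoduleOf (N ⊔ R ∙ y)) = _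
    rw [← Submodule.Quotient.mk_smul, Submodule.Quotient.eq]
    show r • y - (n + r • y) ∈ N
    simpa using N.neg_mem hn
  exact ⟨(g.quotKerEquivOfSurjective hg).symm ≪≫ₗ Submodule.quotEquivOfEq _ _ hk⟩

variable [IsNoetherianRing R] [Module.Finite R M]

theorem exists_good (q : PrimeSpectrum R)
    (hq : Minimal (fun p : PrimeSpectrum R => p ∈ Module.support R M) q) :
    ∃ (l : ℕ) (x : Fin l → M),
      q ∉ Module.support R (M ⧸ Submodule.span R (Set.range x)) ∧
      ∀ i : Fin l, Nonempty ((↥(CycDet.spanBefore R M x (i + 1)) ⧸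
        (CycDet.spanBefore R M x i).submoduleOf (CycDet.spanBefore R M x (i + 1))) ≃ₗ[R]
          (R ⧸ q.asIdeal)) := by
  let T : Set (Submodule R M) := {N | ∃ (l : ℕ) (x : Fin l → M),
    Submodule.span R (Set.range x) = N ∧ ∀ i : Fin l, Nonempty ((↥(CycDet.spanBefore R M x (i + 1)) ⧸
        (CycDet.spanBefore R M x i).submoduleOf (CycDet.spanBefore R M x (i + 1))) ≃ₗ[R]
          (R ⧸ q.asIdeal))}
  obtain ⟨N, ⟨l, x, hN, hx⟩, hmax⟩ := set_has_maximal_iff_noetherian.mpr
    (inferInstance : IsNoetherian R M) T ⟨⊥, 0, Fin.elim0, by simp, fun i => i.elim0⟩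
  subst hN
  refine ⟨l, x, fun hs => ?_, hx⟩
  have hmin : q.asIdeal ∈
      (Module.annihilator R (M ⧸ Submodule.span R (Set.range x))).minimalPrimes := by
    refine ⟨⟨q.2, Module.annihilator_le_of_mem_support hs⟩, fun J ⟨hJ, hJle⟩ hJq => ?_⟩
    have hJm : (⟨J, hJ⟩ : PrimeSpectrum R) ∈
        Module.support R (M ⧸ Submodule.span R (Set.range x)) := by
      rw [Module.support_eq_zeroLocus]; exact hJle
    exact hq.2 (Module.support_subset_of_surjective _ (Submodule.mkQ_surjective _) hJm) hJq
  have hass := Module.associatedPrimes.minimalPrimes_annihilator_subset_associatedPrimes R _ hmin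
  obtain ⟨-, z, hz⟩ := isAssociatedPrime_iff.mp hass
  obtain ⟨y, rfl⟩ := Submodule.Quotient.mk_surjective _ z
  have hy : ∀ r, r • y ∈ Submodule.span R (Set.range x) ↔ r ∈ q.asIdeal := fun r => by
    rw [hz]
    simp [← Submodule.Quotient.mk_smul, Submodule.Quotient.mk_eq_zero,
      Submodule.mem_colon_singleton]
  let x' : Fin (l + 1) → M := Fin.snoc x y
  have hlt : ∀ i : ℕ, i ≤ l → CycDet.spanBefore R M x' i = CycDet.spanBefore R M x i := by
    intro i hi
    refine congrArg (Submodule.span R) (Set.ext fun w => ?_)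
    constructor
    · rintro ⟨j, hj, rfl⟩
      refine ⟨⟨j, lt_of_lt_of_le hj hi⟩, hj, ?_⟩
      simp only [x']
      conv_rhs => rw [show j = Fin.castSucc ⟨j, lt_of_lt_of_le hj hi⟩ from rfl]
      rw [Fin.snoc_castSucc]
    · rintro ⟨j, hj, rfl⟩
      exact ⟨j.castSucc, hj, by simp [x']⟩
  have htop : CycDet.spanBefore R M x' (l + 1) = Submodule.span R (Set.range x) ⊔ R ∙ y := by
    have := F_succ (R := R) (M := M) x' (Fin.last l)
    simp only [Fin.val_last] at this
    rw [this, hlt l le_rfl, F_top x le_rfl]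
    simp [x']
  refine hmax (Submodule.span R (Set.range x) ⊔ R ∙ y) ⟨l + 1, x', ?_, fun i => ?_⟩ ?_
  · rw [← htop, F_top x' le_rfl]
  · by_cases hi : (i : ℕ) < l
    · rw [hlt _ hi, hlt _ hi.le]
      exact hx ⟨i, hi⟩
    · have hil : (i : ℕ) = l := by omega
      rw [hil, htop, hlt l le_rfl, F_top x le_rfl]
      exact exists_equiv_of_colon _ _ _ hy
  · refine lt_of_le_of_ne le_sup_left fun e => q.2.ne_top ((Ideal.eq_top_iff_one _).mpr ?_)
    rw [← hy, one_smul, e]
    exact Submodule.mem_sup_right (Submodule.mem_span_singleton_self y)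

theorem length_localized_quot_prime (q : Ideal R) [q.IsPrime] :
    Module.length (Localization.AtPrime q) (LocalizedModule q.primeCompl (R ⧸ q)) = 1 := by
  let f : Localization.AtPrime q →ₗ[Localization.AtPrime q] LocalizedModule q.primeCompl (R ⧸ q) :=
    LinearMap.toSpanSingleton _ _ (LocalizedModule.mk 1 1)
  have hf : Function.Surjective f := fun z => by
    induction z using LocalizedModule.induction_on with
    | h z s =>
      obtain ⟨r, rfl⟩ := Ideal.Quotient.mk_surjective z
      refine ⟨Localization.mk r s, ?_⟩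
      simp [f, LinearMap.toSpanSingleton_apply, LocalizedModule.mk_smul_mk,
        Algebra.smul_def]
  haveI : Nontrivial (LocalizedModule q.primeCompl (R ⧸ q)) := by
    rw [← Module.mem_support_iff (p := ⟨q, ‹_›⟩), Module.support_eq_zeroLocus,
      Ideal.annihilator_quotient]
    exact le_refl q
  have hker : LinearMap.ker f = IsLocalRing.maximalIdeal (Localization.AtPrime q) := by
    refine ((IsLocalRing.maximalIdeal.isMaximal _).eq_of_le ?_ ?_).symm
    · intro h
      have h1 : (1 : Localization.AtPrime q) ∈ LinearMap.ker f := by rw [h]; trivial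
      refine not_subsingleton (LocalizedModule q.primeCompl (R ⧸ q)) ⟨fun a b => ?_⟩
      obtain ⟨a, rfl⟩ := hf a
      obtain ⟨b, rfl⟩ := hf b
      have e1 : LinearMap.ker f = ⊤ := h
      rw [LinearMap.ker_eq_top] at e1
      simp [e1]
    · rw [← Localization.AtPrime.map_eq_maximalIdeal, Ideal.map_le_iff_le_comap]
      intro r hr
      show f (algebraMap R (Localization.AtPrime q) r) = 0
      simp [f, LinearMap.toSpanSingleton_apply, algebraMap_smul, LocalizedModule.smul'_mk,
        Algebra.smul_def, Ideal.Quotient.eq_zero_iff_mem.mpr hr, LocalizedModule.zero_mk]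
  haveI : IsSimpleModule (Localization.AtPrime q)
      (Localization.AtPrime q ⧸ LinearMap.ker f) := by
    rw [hker]
    exact isSimpleModule_iff_isCoatom.mpr (IsLocalRing.maximalIdeal.isMaximal _).out
  rw [← (f.quotKerEquivOfSurjective hf).length_eq]
  exact Module.length_eq_one _ _

theorem length_spanBefore_localized (q : PrimeSpectrum R) {l : ℕ} (x : Fin l → M)
    (hx : ∀ i : Fin l, Nonempty ((↥(CycDet.spanBefore R M x (i + 1)) ⧸
        (CycDet.spanBefore R M x i).submoduleOf (CycDet.spanBefore R M x (i + 1))) ≃ₗ[R]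
          (R ⧸ q.asIdeal))) :
    ∀ i ≤ l, Module.length (Localization.AtPrime q.asIdeal)
      (LocalizedModule q.asIdeal.primeCompl ↥(CycDet.spanBefore R M x i)) = i
  | 0, _ => by
    haveI : Subsingleton ↥(CycDet.spanBefore R M x 0) := by
      rw [F_zero]; infer_instance
    haveI : Subsingleton (LocalizedModule q.asIdeal.primeCompl ↥(CycDet.spanBefore R M x 0)) :=
      LocalizedModule.subsingleton_iff.mpr fun m =>
        ⟨1, q.asIdeal.primeCompl.one_mem, Subsingleton.elim _ _⟩
    simpa using Module.length_eq_zero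
  | i + 1, h => by
    obtain ⟨e⟩ := hx ⟨i, h⟩
    let S := q.asIdeal.primeCompl
    let A := CycDet.spanBefore R M x i
    let B := CycDet.spanBefore R M x (i + 1)
    have hAB : A ≤ B := by
      rw [show A = CycDet.spanBefore R M x i from rfl, show B = CycDet.spanBefore R M x (i + 1) from rfl]
      exact F_mono x (by omega)
    let f : A →ₗ[R] B := Submodule.inclusion hAB
    let g : B →ₗ[R] R ⧸ q.asIdeal := e.toLinearMap ∘ₗ (A.submoduleOf B).mkQ
    have hg0 : ∀ b : B, g b = 0 ↔ (b : M) ∈ A := fun b => by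
      show e (Submodule.Quotient.mk b) = 0 ↔ _
      rw [LinearEquiv.map_eq_zero_iff]
      exact Submodule.Quotient.mk_eq_zero _
    have hex : Function.Exact f g := fun b =>
      ⟨fun h => ⟨⟨b, (hg0 b).mp h⟩, rfl⟩, fun ⟨a, ha⟩ => ha ▸ (hg0 (f a)).mpr a.2⟩
    have := Module.length_eq_add_of_exact (LocalizedModule.map S f) (LocalizedModule.map S g)
      (LocalizedModule.map_injective S f (Submodule.inclusion_injective hAB))
      (LocalizedModule.map_surjective S g (e.surjective.comp (Submodule.mkQ_surjective _)))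
      (LocalizedModule.map_exact S f g hex)
    rw [this, length_spanBefore_localized q x hx i (by omega),
      length_localized_quot_prime q.asIdeal]
    simp

theorem good_sequence (q : PrimeSpectrum R)
    (hq : Minimal (fun p : PrimeSpectrum R => p ∈ Module.support R M) q) :
    (∃ (l : ℕ) (x : Fin l → M),
      q ∉ Module.support R (M ⧸ Submodule.span R (Set.range x)) ∧
      ∀ i : Fin l, Nonempty ((↥(CycDet.spanBefore R M x (i + 1)) ⧸
        (CycDet.spanBefore R M x i).submoduleOf (CycDet.spanBefore R M x (i + 1))) ≃ₗ[R]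
          (R ⧸ q.asIdeal))) ∧
    ∀ (l : ℕ) (x : Fin l → M),
      q ∉ Module.support R (M ⧸ Submodule.span R (Set.range x)) →
      (∀ i : Fin l, Nonempty ((↥(CycDet.spanBefore R M x (i + 1)) ⧸
        (CycDet.spanBefore R M x i).submoduleOf (CycDet.spanBefore R M x (i + 1))) ≃ₗ[R]
          (R ⧸ q.asIdeal))) →
      (l : ℕ∞) = Module.length (Localization.AtPrime q.asIdeal)
        (LocalizedModule q.asIdeal.primeCompl M) := by
  refine ⟨exists_good q hq, fun l x hs hx => ?_⟩
  let S := q.asIdeal.primeCompl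
  let N := CycDet.spanBefore R M x l
  have hN : N = Submodule.span R (Set.range x) := F_top (R := R) x le_rfl
  haveI : Subsingleton (LocalizedModule S (M ⧸ N)) := by
    rw [hN]; exact Module.notMem_support_iff.mp hs
  have := Module.length_eq_add_of_exact (LocalizedModule.map S N.subtype)
    (LocalizedModule.map S N.mkQ)
    (LocalizedModule.map_injective S _ N.injective_subtype)
    (LocalizedModule.map_surjective S _ N.mkQ_surjective)
    (LocalizedModule.map_exact S _ _ (LinearMap.exact_subtype_mkQ N))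
  rw [this, length_spanBefore_localized q x hx l le_rfl, Module.length_eq_zero, add_zero]

end GoodSeq

end Groth.Agent.CycAlg26
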